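import Mathlib
import Cfsg.Agent.Lib.Helper58.PGUmax.Defs
import Cfsg.Agent.Lib.Helper83.PGUmax.UBpoly

/-!
# S2263 (PGUmax) package (11): `PkgUnip2`

A unipotent element of order `p` in `GU_2(q)`; more generally a regular unipotent element of
`GU_n(q)`.
-/

set_option autoImplicit false

namespace Cfsg.Agent.Lib.Helper83.PGUmax

open Polynomial Cfsg.Agent.Lib.Helper58.PGUmax Cfsg.Agent.Lib.Helper40.PGUClasses
  Cfsg.Agent.Lib.Helper40.UnitaryWall Cfsg.Agent.Lib.Helper40.Jordan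

universe u

/-- A regular unipotent element of `GU_n(q)`: `(u - 1) ^ j = 0` exactly when `n ≤ j`. -/
theorem exists_regular_unipotent {K : Type u} [Field K] [Fintype K] {q n : ℕ}
    (hK : Fintype.card K = q ^ 2) (hn : n ≠ 0) :
    ∃ g : ↥(Cfsg.GU n K q), ∀ j : ℕ, (mat g - 1) ^ j = 0 ↔ n ≤ j := by
  obtain ⟨g, hg⟩ := exists_gu_type hK (Nat.Partition.indiscrete n)
  refine ⟨g, fun j => ?_⟩
  rw [mat_pow_eq_zero_iff hg j, Nat.Partition.indiscrete_parts hn]
  simp

/-- `(1 + N) ^ k = 1 + k • N` when `N * N = 0`. -/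
theorem one_add_pow_of_sq_zero {R : Type u} [Ring R] (N : R) (hN : N * N = 0) (k : ℕ) :
    (1 + N) ^ k = 1 + k • N := by
  induction k with
  | zero => simp
  | succ k ih =>
    rw [pow_succ, ih, add_mul, mul_add, mul_add, mul_one, mul_one, smul_mul_assoc, hN, smul_zero,
      add_zero, succ_nsmul, one_mul]
    abel

theorem pkgUnip2 : Cfsg.Agent.Lib.Helper58.PGUmax.PkgUnip2.{u} := by
  intro K _ _ p f q hp hf hq hK
  haveI : CharP K p := charP_of_card_sq p f q hp hf hq hK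
  haveI : Fact p.Prime := ⟨hp⟩
  obtain ⟨g, hg⟩ := exists_regular_unipotent (n := 2) hK (by norm_num)
  obtain ⟨N, hN⟩ : ∃ N, N = mat g - 1 := ⟨_, rfl⟩
  rw [← hN] at hg
  have hmat : mat g = 1 + N := by rw [hN]; abel
  have hN2 : N * N = 0 := by
    rw [← pow_two]
    exact (hg 2).mpr le_rfl
  have hN1 : N ≠ 0 := by
    intro h0
    have := (hg 1).mp (by rw [pow_one]; exact h0)
    omega
  refine ⟨g, ?_, ⟨2, by rw [← hN]; exact (hg 2).mpr le_rfl⟩⟩
  refine orderOf_eq_prime ?_ ?_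
  · apply mat_injective
    rw [mat_pow, hmat, one_add_pow_of_sq_zero N hN2 p, ← Nat.cast_smul_eq_nsmul K p N,
      CharP.cast_eq_zero K p, zero_smul, add_zero]
    rfl
  · intro h1
    apply hN1
    rw [hN, h1]
    show (1 : Matrix (Fin 2) (Fin 2) K) - 1 = 0
    exact sub_self 1

end Cfsg.Agent.Lib.Helper83.PGUmax
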