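import Mathlib
import Cfsg.Agent.Lib.Helper58.PGUmax.Defs
import Cfsg.Agent.Lib.Helper83.PGUmax.Unip2

/-!
# S2263 (PGUmax) package (12): `PkgUnip3`

A unipotent element of order `4` in `GU_3(2)`.
-/

set_option autoImplicit false

namespace Cfsg.Agent.Lib.Helper83.PGUmax

open Polynomial Cfsg.Agent.Lib.Helper58.PGUmax Cfsg.Agent.Lib.Helper40.PGUClasses
  Cfsg.Agent.Lib.Helper40.UnitaryWall Cfsg.Agent.Lib.Helper40.Jordan

universe u

theorem pkgUnip3 : Cfsg.Agent.Lib.Helper58.PGUmax.PkgUnip3.{u} := by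
  intro K _ _ hK
  haveI : CharP K 2 := charP_of_card_sq 2 1 2 Nat.prime_two le_rfl (by norm_num) hK
  haveI : Fact (Nat.Prime 2) := ⟨Nat.prime_two⟩
  obtain ⟨g, hg⟩ := exists_regular_unipotent (n := 3) hK (by norm_num)
  obtain ⟨N, hN⟩ : ∃ N, N = mat g - 1 := ⟨_, rfl⟩
  rw [← hN] at hg
  have hmat : mat g = 1 + N := by rw [hN]; abel
  have hN3 : N ^ 3 = 0 := (hg 3).mpr le_rfl
  have hN2 : N ^ 2 ≠ 0 := fun h0 => by
    have := (hg 2).mp h0
    omega
  have hsq : ∀ M : Matrix (Fin 3) (Fin 3) K, (1 + M) ^ 2 = 1 + M ^ 2 := by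
    intro M
    have h2 : M + M = 0 := by rw [← two_smul K M, CharTwo.two_eq_zero, zero_smul]
    rw [pow_two, pow_two, mul_add, add_mul, add_mul, one_mul, mul_one, one_mul, add_assoc,
      ← add_assoc M M, h2, zero_add]
  have h1 : mat (1 : ↥(Cfsg.GU 3 K 2)) = 1 := rfl
  refine ⟨g, ?_, ⟨3, by rw [← hN]; exact hN3⟩⟩
  have h4 : orderOf g = 2 ^ (1 + 1) := by
    refine orderOf_eq_prime_pow ?_ ?_
    · intro h
      apply hN2
      have h5 := congrArg mat h
      rw [mat_pow, hmat, pow_one, hsq, h1] at h5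
      have h6 : (1 : Matrix (Fin 3) (Fin 3) K) + N ^ 2 = 1 + 0 := by rw [h5, add_zero]
      exact add_left_cancel h6
    · apply mat_injective
      have h7 : (2 : ℕ) ^ (1 + 1) = 2 * 2 := by norm_num
      have h8 : N ^ (2 * 2) = 0 := by
        have h9 : N ^ (2 * 2) = N ^ 3 * N := by rw [← pow_succ]
        rw [h9, hN3, zero_mul]
      rw [mat_pow, hmat, h7, pow_mul, hsq, hsq, ← pow_mul, h8, add_zero, h1]
  rw [h4]
  norm_num

end Cfsg.Agent.Lib.Helper83.PGUmax
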